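import Mathlib

/-!
Groups with generators `x, u, t` behaving as those of `C₃ ≀ S₃`, realised on nine cosets.
-/

set_option autoImplicit false

open scoped Pointwise

namespace CfsgLib.Wr162

variable {G : Type*} [Group G]

/-- `j ↦ s j s⁻¹ j⁻¹`. -/
def D (s j : G) : G := s * j * s⁻¹ * j⁻¹

theorem D_eq_one {s j : G} : D s j = 1 ↔ Commute s j := by
  rw [D, mul_inv_eq_one, mul_inv_eq_iff_eq_mul]; rfl

theorem D_mem {J : Subgroup G} [J.Normal] {s j : G} (hj : j ∈ J) : D s j ∈ J :=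
  mul_mem (Subgroup.Normal.conj_mem ‹J.Normal› j hj s) (inv_mem hj)

theorem comm_of_mem {J : Subgroup G} (hJ : IsMulCommutative J) {a b : G} (ha : a ∈ J) (hb : b ∈ J) :
    a * b = b * a :=
  congrArg Subtype.val (hJ.is_comm.comm (⟨a, ha⟩ : J) ⟨b, hb⟩)

theorem sup_cyclic_card_le [Finite G] (A : Subgroup G) (b : G)
    (h : Subgroup.zpowers b ≤ Subgroup.normalizer (A : Set G)) :
    Nat.card (A ⊔ Subgroup.zpowers b : Subgroup G) ≤ Nat.card A * orderOf b := by
  have e : ((A ⊔ Subgroup.zpowers b : Subgroup G) : Set G) =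
      (A : Set G) * (Subgroup.zpowers b : Set G) :=
    Subgroup.coe_mul_of_right_le_normalizer_left A (Subgroup.zpowers b) h
  calc Nat.card (A ⊔ Subgroup.zpowers b : Subgroup G)
      = Nat.card (((A : Set G) * (Subgroup.zpowers b : Set G) : Set G)) := by rw [← e]; rfl
    _ ≤ _ := Set.natCard_mul_le
    _ = Nat.card A * orderOf b := by rw [← Nat.card_zpowers]; rfl

/-- Recognition of `C₃ ≀ S₃` inside `Sym(9)`. -/
theorem embed_nine [Finite G] (hG : Nat.card G = 162) {J : Subgroup G} [J.Normal]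
    (hJ : IsMulCommutative J) (x u t : G) (hu : u ∈ J) (hu3 : u ^ 3 = 1) (hx3 : x ^ 3 = 1)
    (ht : t * t = 1) (htx : t * x * t = x⁻¹) (htu : t * u = u * t)
    (hgen : Subgroup.closure {x, u, t} = ⊤)
    (hz : ∀ n : Subgroup G, n.Normal → n ≤ J → n ≠ ⊥ → u * (x * u * x⁻¹) * (x⁻¹ * u * x) ∈ n)
    (hne : x * u * x⁻¹ ≠ x⁻¹ * u * x) :
    ∃ φ : G →* Equiv.Perm (Fin 9), Function.Injective φ ∧
      φ (u * (x * u * x⁻¹) * (x⁻¹ * u * x)) =
        Equiv.swap (0 : Fin 9) 1 * Equiv.swap 1 2 * Equiv.swap 3 4 * Equiv.swap 4 5 *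
          Equiv.swap 6 7 * Equiv.swap 7 8 := by
  set u₁ := x * u * x⁻¹ with hu₁
  set u₂ := x⁻¹ * u * x with hu₂
  have m₁ : u₁ ∈ J := Subgroup.Normal.conj_mem ‹J.Normal› u hu x
  have m₂ : u₂ ∈ J := by
    have := Subgroup.Normal.conj_mem ‹J.Normal› u hu x⁻¹
    rwa [inv_inv] at this
  have hx2 : x * x = x⁻¹ := eq_inv_of_mul_eq_one_left (by rw [← hx3, pow_succ, pow_two])
  have hti : t⁻¹ = t := inv_eq_of_mul_eq_one_right ht
  have htxx : t * x = x⁻¹ * t := by rw [← htx, mul_assoc, ht, mul_one]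
  have htxi : t * x⁻¹ = x * t := by
    calc t * x⁻¹ = t * (t * x * t) := by rw [htx]
      _ = x * t := by rw [← mul_assoc, ← mul_assoc, ht, one_mul]
  have tu1 : t * u₁ * t⁻¹ = u₂ := by
    calc t * u₁ * t⁻¹ = (t * x) * u * (x⁻¹ * t) := by rw [hu₁, hti]; group
      _ = (x⁻¹ * t) * u * (t * x) := by rw [htxx]
      _ = x⁻¹ * (t * u) * t * x := by group
      _ = x⁻¹ * u * (t * t) * x := by rw [htu]; group
      _ = u₂ := by rw [ht, mul_one]
  have tu2 : t * u₂ * t⁻¹ = u₁ := by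
    rw [← tu1, hti]
    calc t * (t * u₁ * t) * t = (t * t) * u₁ * (t * t) := by group
      _ = u₁ := by rw [ht, one_mul, mul_one]
  let J₁ : Subgroup G := Subgroup.zpowers u₁ ⊔ Subgroup.zpowers u₂
  let K : Subgroup G := J₁ ⊔ Subgroup.zpowers t
  have hJ₁ : J₁ ≤ J := sup_le (Subgroup.zpowers_le.2 m₁) (Subgroup.zpowers_le.2 m₂)
  have k₁ : u₁ ∈ K := le_sup_left (a := J₁) (le_sup_left (a := Subgroup.zpowers u₁)
    (Subgroup.mem_zpowers _))
  have k₂ : u₂ ∈ K := le_sup_left (a := J₁) (le_sup_right (b := Subgroup.zpowers u₂)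
    (Subgroup.mem_zpowers _))
  have kt : t ∈ K := le_sup_right (b := Subgroup.zpowers t) (Subgroup.mem_zpowers _)
  have tJ₁ : ∀ a ∈ J₁, t * a * t⁻¹ ∈ J₁ := by
    have : J₁ ≤ J₁.comap (MulAut.conj t).toMonoidHom := by
      refine sup_le (Subgroup.zpowers_le.2 ?_) (Subgroup.zpowers_le.2 ?_) <;>
        simp only [Subgroup.mem_comap, MulEquiv.coe_toMonoidHom, MulAut.conj_apply]
      · rw [tu1]; exact le_sup_right (b := Subgroup.zpowers u₂) (Subgroup.mem_zpowers _)
      · rw [tu2]; exact le_sup_left (a := Subgroup.zpowers u₁) (Subgroup.mem_zpowers _)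
    exact fun a ha => this ha
  have tN : Subgroup.zpowers t ≤ Subgroup.normalizer (J₁ : Set G) := by
    rw [Subgroup.zpowers_le, Subgroup.mem_normalizer_iff]
    intro a
    refine ⟨fun ha => tJ₁ a ha, fun ha => ?_⟩
    have := tJ₁ _ ha
    rwa [hti, show t * (t * a * t) * t = (t * t) * a * (t * t) by group, ht, one_mul, mul_one]
      at this
  have ord3 : ∀ g : G, g ^ 3 = 1 → orderOf g ≤ 3 := fun g hg =>
    Nat.le_of_dvd (by norm_num) (orderOf_dvd_of_pow_eq_one hg)
  have p₁ : u₁ ^ 3 = 1 := by rw [hu₁, conj_pow, hu3]; group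
  have p₂ : u₂ ^ 3 = 1 := by
    rw [hu₂, show x⁻¹ * u * x = x⁻¹ * u * x⁻¹⁻¹ by rw [inv_inv], conj_pow, hu3]; group
  have hKle : Nat.card K ≤ 18 := by
    have h1 : Nat.card J₁ ≤ 9 := by
      refine (sup_cyclic_card_le _ u₂ ?_).trans ?_
      · rw [Subgroup.zpowers_le, Subgroup.mem_normalizer_iff]
        intro a
        have hcomm : ∀ b ∈ Subgroup.zpowers u₁, u₂ * b * u₂⁻¹ = b := fun b hb => by
          rw [comm_of_mem hJ m₂ (Subgroup.zpowers_le.2 m₁ hb), mul_assoc, mul_inv_cancel, mul_one]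
        refine ⟨fun ha => by rw [hcomm a ha]; exact ha, fun ha => ?_⟩
        have h := hcomm _ ha
        have : u₂ * a * u₂⁻¹ = a := by
          have := congrArg (fun g => u₂⁻¹ * g * u₂) h
          group at this ⊢
          exact this
        rwa [this] at ha
      · rw [Nat.card_zpowers]
        exact (Nat.mul_le_mul (ord3 _ p₁) (ord3 _ p₂)).trans (by norm_num)
    refine (sup_cyclic_card_le _ t tN).trans ?_
    calc Nat.card J₁ * orderOf t ≤ 9 * 2 :=
          Nat.mul_le_mul h1 (Nat.le_of_dvd (by norm_num)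
            (orderOf_dvd_of_pow_eq_one (by rw [pow_two, ht])))
      _ = 18 := rfl
  -- the nine cosets
  let P : Fin 9 → G := fun i => x ^ (i.val / 3) * u ^ (i.val % 3)
  let f : Fin 9 → G ⧸ K := fun i => (P i : G ⧸ K)
  have step : ∀ (g k : G) (i j : Fin 9), k ∈ K → g * P i = P j * k → g • f i = f j := by
    intro g k i j hk h
    show ((g * P i : G) : G ⧸ K) = (P j : G ⧸ K)
    rw [h, QuotientGroup.eq]
    simpa using inv_mem hk
  let shX : Fin 9 → Fin 9 := ![3, 4, 5, 6, 7, 8, 0, 1, 2]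
  let shU : Fin 9 → Fin 9 := ![1, 2, 0, 3, 4, 5, 6, 7, 8]
  let shT : Fin 9 → Fin 9 := ![0, 1, 2, 6, 7, 8, 3, 4, 5]
  have hsplit : ∀ i : Fin 9, ∃ a b : ℕ, a < 3 ∧ b < 3 ∧ i.val = 3 * a + b ∧ P i = x ^ a * u ^ b :=
    fun i => ⟨i.val / 3, i.val % 3, by omega, Nat.mod_lt _ (by norm_num), by omega, rfl⟩
  have hP : ∀ (a b : ℕ) (hb : b < 3) (j : Fin 9), j.val = 3 * a + b → P j = x ^ a * u ^ b := by
    intro a b hb j hj
    show x ^ (j.val / 3) * u ^ (j.val % 3) = _
    rw [show j.val / 3 = a by omega, show j.val % 3 = b by omega]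
  have actX : ∀ i, x • f i = f (shX i) := by
    intro i
    obtain ⟨a, b, ha, hb, hi, e⟩ := hsplit i
    refine step x 1 _ _ (one_mem _) ?_
    have hj : (shX i).val = 3 * ((a + 1) % 3) + b := by
      have : ∀ i : Fin 9, (shX i).val = 3 * ((i.val / 3 + 1) % 3) + i.val % 3 := by decide
      rw [this i]; omega
    rw [hP _ b hb _ hj, e, mul_one, ← mul_assoc, ← pow_succ', ← pow_eq_pow_mod _ hx3]
  have actU : ∀ i, u • f i = f (shU i) := by
    intro i
    obtain ⟨a, b, ha, hb, hi, e⟩ := hsplit i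
    interval_cases a
    · refine step u 1 _ _ (one_mem _) ?_
      have hj : (shU i).val = 3 * 0 + (b + 1) % 3 := by
        have : ∀ i : Fin 9, i.val < 3 → (shU i).val = (i.val + 1) % 3 := by decide
        rw [this i (by omega)]; omega
      rw [hP 0 _ (Nat.mod_lt _ (by norm_num)) _ hj, e, mul_one, pow_zero, one_mul, one_mul,
        ← pow_succ', ← pow_eq_pow_mod _ hu3]
    all_goals
      have hj : shU i = i := by
        have : ∀ i : Fin 9, 3 ≤ i.val → shU i = i := by decide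
        exact this i (by omega)
      rw [hj]
    · refine step u u₂ _ _ k₂ ?_
      rw [e, mul_assoc (x ^ 1), comm_of_mem hJ (pow_mem hu b) m₂, hu₂, pow_one]
      group
    · refine step u u₁ _ _ k₁ ?_
      rw [e, mul_assoc (x ^ 2), comm_of_mem hJ (pow_mem hu b) m₁, hu₁, pow_two, hx2]
      group
  have actT : ∀ i, t • f i = f (shT i) := by
    intro i
    obtain ⟨a, b, ha, hb, hi, e⟩ := hsplit i
    refine step t t _ _ kt ?_
    have hj : (shT i).val = 3 * ((3 - a) % 3) + b := by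
      have : ∀ i : Fin 9, (shT i).val = 3 * ((3 - i.val / 3) % 3) + i.val % 3 := by decide
      rw [this i]; omega
    have hb' : t * u ^ b = u ^ b * t := (Commute.pow_right htu b)
    rw [hP _ b hb _ hj, e]
    interval_cases a
    · simp [hb']
    · rw [show (3 - 1) % 3 = 2 from rfl, pow_one, pow_two, hx2, ← mul_assoc, htxx, mul_assoc, hb',
        ← mul_assoc]
    · rw [show (3 - 2) % 3 = 1 from rfl, pow_one, pow_two, hx2, ← mul_assoc, htxi, mul_assoc, hb',
        ← mul_assoc]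
  have hsurj : Function.Surjective f := by
    have hall : ∀ g : G, ∀ i, ∃ j, g • f i = f j := by
      intro g
      have hg : g ∈ Submonoid.closure ({x, u, t} : Set G) := by
        rw [← Subgroup.closure_toSubmonoid_of_finite, hgen]; trivial
      induction hg using Submonoid.closure_induction with
      | mem y hy =>
        rcases hy with rfl | rfl | rfl
        · exact fun i => ⟨_, actX i⟩
        · exact fun i => ⟨_, actU i⟩
        · exact fun i => ⟨_, actT i⟩
      | one => exact fun i => ⟨i, one_smul _ _⟩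
      | mul y y' _ _ h h' =>
        intro i
        obtain ⟨j, hj⟩ := h' i
        obtain ⟨k, hk⟩ := h j
        exact ⟨k, by rw [mul_smul, hj, hk]⟩
    intro q
    obtain ⟨g, rfl⟩ := QuotientGroup.mk_surjective q
    obtain ⟨j, hj⟩ := hall g 0
    refine ⟨j, hj.symm.trans ?_⟩
    show ((g * P 0 : G) : G ⧸ K) = _
    simp [P]
  have hidx : 9 ≤ Nat.card (G ⧸ K) := by
    have := Subgroup.card_eq_card_quotient_mul_card_subgroup K
    rw [hG] at this
    by_contra hlt
    have : Nat.card (G ⧸ K) * Nat.card K ≤ 8 * 18 := Nat.mul_le_mul (by omega) hKle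
    omega
  have hbij : Function.Bijective f := by
    refine (Nat.bijective_iff_surjective_and_card f).2 ⟨hsurj, le_antisymm ?_ ?_⟩
    · rw [Nat.card_fin]; exact hidx
    · exact Nat.card_le_card_of_surjective f hsurj
  let e := Equiv.ofBijective f hbij
  let φ : G →* Equiv.Perm (Fin 9) :=
    (e.symm.permCongrHom.toMonoidHom).comp (MulAction.toPermHom G (G ⧸ K))
  have hφ : ∀ g i j, g • f i = f j → φ g i = j := fun g i j h => by
    show e.symm (g • e i) = j
    rw [Equiv.symm_apply_eq]; exact h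
  set z := u * u₁ * u₂ with hzdef
  have hzval : φ z = Equiv.swap (0 : Fin 9) 1 * Equiv.swap 1 2 * Equiv.swap 3 4 * Equiv.swap 4 5 *
      Equiv.swap 6 7 * Equiv.swap 7 8 := by
    have eX : ∀ i, φ x i = shX i := fun i => hφ _ _ _ (actX i)
    have eU : ∀ i, φ u i = shU i := fun i => hφ _ _ _ (actU i)
    have eXi : ∀ i, φ x⁻¹ i = shX (shX i) := fun i => by
      rw [← hx2, map_mul, Equiv.Perm.mul_apply, eX, eX]
    ext i
    simp only [hzdef, hu₁, hu₂, map_mul, Equiv.Perm.mul_apply, eX, eU, eXi]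
    revert i
    decide
  refine ⟨φ, ?_, hzval⟩
  rw [← φ.ker_eq_bot_iff]
  have hker : φ.ker ≤ K := fun g hg => by
    have h0 : φ g 0 = 0 := by rw [show φ g = 1 from hg]; rfl
    have h1 : e.symm (g • e 0) = 0 := h0
    rw [Equiv.symm_apply_eq] at h1
    have : ((g * P 0 : G) : G ⧸ K) = (P 0 : G ⧸ K) := h1
    rw [QuotientGroup.eq] at this
    simpa [P] using inv_mem this
  have hinf : φ.ker ⊓ J = ⊥ := by
    by_contra h
    have := (Subgroup.mem_inf.1 (hz (φ.ker ⊓ J) inferInstance inf_le_right h)).1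
    rw [MonoidHom.mem_ker, hzval] at this
    exact absurd (congrArg (fun σ : Equiv.Perm (Fin 9) => σ 0) this) (by decide)
  refine (Subgroup.eq_bot_iff_forall _).2 fun g hg => ?_
  have hgK : g ∈ ((J₁ ⊔ Subgroup.zpowers t : Subgroup G) : Set G) := hker hg
  rw [Subgroup.coe_mul_of_right_le_normalizer_left _ _ tN] at hgK
  obtain ⟨a, ha, b, hb, rfl⟩ := hgK
  have hb' : b = 1 ∨ b = t := by
    obtain ⟨k, rfl⟩ := Subgroup.mem_zpowers_iff.1 hb
    rcases Int.even_or_odd k with ⟨n, rfl⟩ | ⟨n, rfl⟩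
    · left; rw [← two_mul, zpow_mul, zpow_two, ht, one_zpow]
    · right; rw [zpow_add_one, zpow_mul, zpow_two, ht, one_zpow, one_mul]
  rcases hb' with hb1 | hb1 <;> subst b
  · have : a * 1 ∈ φ.ker ⊓ J := ⟨hg, by simpa using hJ₁ ha⟩
    rwa [hinf, Subgroup.mem_bot] at this
  · exfalso
    apply hne
    have hcomm : (a * t) * u₁ * (a * t)⁻¹ * u₁⁻¹ ∈ φ.ker ⊓ J := by
      refine ⟨?_, J.mul_mem (Subgroup.Normal.conj_mem ‹J.Normal› _ m₁ _) (J.inv_mem m₁)⟩
      have e1 : (a * t) * u₁ * (a * t)⁻¹ * u₁⁻¹ = (a * t) * (u₁ * (a * t)⁻¹ * u₁⁻¹) := by group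
      rw [e1]
      have hgk : a * t ∈ φ.ker := hg
      show (a * t) * (u₁ * (a * t)⁻¹ * u₁⁻¹) ∈ φ.ker
      exact Subgroup.mul_mem _ hgk (φ.normal_ker.conj_mem _ (Subgroup.inv_mem _ hgk) _)
    rw [hinf, Subgroup.mem_bot, mul_inv_eq_one] at hcomm
    have : a * (t * u₁ * t⁻¹) * a⁻¹ = u₁ :=
      Eq.trans (by group) hcomm
    rw [tu1, comm_of_mem hJ (hJ₁ ha) m₂, mul_assoc, mul_inv_cancel, mul_one] at this
    exact this.symm

end CfsgLib.Wr162
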